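import Cfsg.Prelude.Def_OddOrderLocal
import Cfsg.Agent.Lib.Frobenius.Kernel
import Cfsg.Agent.Lib.Frobenius.Complement
import Cfsg.Agent.Lib.Frobenius.Construct
import Cfsg.Agent.Lib.Coprime.Action
import Cfsg.Agent.Lib.Involution.Dihedral
import Cfsg.Agent.FG78.IndexLemmas
import Mathlib.GroupTheory.SpecificGroups.ZGroup
import Mathlib.GroupTheory.SpecificGroups.Dihedral

/-!
# TI Hall subgroups with a normal complement in the normalizer
-/

set_option autoImplicit false
set_option linter.style.haveILetI false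

namespace Cfsg.Agent.TIHall

open Subgroup
open scoped Pointwise

universe u

variable {G : Type u} [Group G]

section Ext

variable [Fintype G] {H : Subgroup G} [Fintype H]

/-- If `φ - φ 1` is its own induced function on the subgroup, then `φ` extends to a character. -/
theorem exists_ext_of_indFun_eq (φ : IrrCharacter H)
    (hind : ∀ h : H, indFun H ((φ : H → ℂ) - fun _ => (φ : H → ℂ) 1) h =
      (φ : H → ℂ) h - (φ : H → ℂ) 1) :
    ∃ χ : G → ℂ, IsCharacter G χ ∧ (∀ h : H, χ h = (φ : H → ℂ) h) ∧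
      ∀ g, indFun H ((φ : H → ℂ) - fun _ => (φ : H → ℂ) 1) g = 0 → χ g = (φ : H → ℂ) 1 := by
  classical
  obtain ⟨d, hd⟩ : ∃ d : ℕ, (φ : H → ℂ) 1 = d := by
    obtain ⟨n, ρ, hρ, hχ⟩ := φ.2
    exact ⟨n, by rw [← hχ]; simp [Representation.character]⟩
  rw [hd] at hind ⊢
  let θ : H → ℂ := (φ : H → ℂ) - fun _ => (d : ℂ)
  have hθH : ∀ h : H, indFun H θ h = θ h := fun h => by
    simpa [θ] using hind h
  have hθ1 : θ 1 = 0 := by simp [θ, hd]
  let Λ : G → ℂ := indFun H θ + fun _ => (d : ℂ)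
  have hΛH : ∀ h : H, Λ h = (φ : H → ℂ) h := fun h => by
    simp only [Λ, Pi.add_apply, hθH]
    simp [θ]
  have hΛ0 : ∀ g, indFun H θ g = 0 → Λ g = d := fun g hg => by simp [Λ, hg]
  have hone : IsClassFunction G (fun _ : G => (d : ℂ)) := fun _ _ => rfl
  have hnorm : classInner Λ Λ = 1 := by
    have hφ : classInner (φ : H → ℂ) (φ : H → ℂ) = 1 := CharCore.classInner_irr_self φ
    have e1 : classInner (indFun H θ) (indFun H θ) = classInner θ θ := by
      rw [CharInd.classInner_indFun_left H θ (CharInd.isClassFunction_indFun H θ)]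
      congr 1
      funext h
      exact hθH h
    have e2 : classInner (indFun H θ) (fun _ : G => (d : ℂ)) = classInner θ (fun _ => (d : ℂ)) := by
      rw [CharInd.classInner_indFun_left H θ hone]
    have e3 : classInner (fun _ : G => (d : ℂ)) (indFun H θ) = classInner (fun _ => (d : ℂ)) θ := by
      rw [CharInd.classInner_indFun_right H θ hone]
    have e4 : classInner (fun _ : G => (d : ℂ)) (fun _ : G => (d : ℂ))
        = classInner (fun _ : H => (d : ℂ)) (fun _ => (d : ℂ)) := by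
      simp only [CharCore.classInner_def, Finset.sum_const, Finset.card_univ, nsmul_eq_mul,
        Nat.card_eq_fintype_card]
      have hG : (Fintype.card G : ℂ) ≠ 0 := Nat.cast_ne_zero.2 Fintype.card_ne_zero
      have hH' : (Fintype.card H : ℂ) ≠ 0 := Nat.cast_ne_zero.2 Fintype.card_ne_zero
      field_simp
    have hsplit : (φ : H → ℂ) = θ + fun _ => (d : ℂ) := by funext h; simp [θ]
    simp only [Λ, CharCore.classInner_add_left, CharCore.classInner_add_right, e1, e2, e3, e4]
    rw [hsplit] at hφ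
    simp only [CharCore.classInner_add_left, CharCore.classInner_add_right] at hφ
    exact hφ
  have hA : IsCharacter G (indFun H (φ : H → ℂ) + fun _ => (d : ℂ)) :=
    CharCore.isCharacter_add (CharInd.isCharacter_indFun H (CharCore.irr_isCharacter φ))
      (CharCore.isCharacter_natCast d)
  have hB : IsCharacter G (indFun H (fun _ => (d : ℂ))) :=
    CharInd.isCharacter_indFun H (CharCore.isCharacter_natCast d)
  have hΛAB : Λ = (indFun H (φ : H → ℂ) + fun _ => (d : ℂ)) - indFun H (fun _ => (d : ℂ)) := by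
    simp only [Λ, θ, CharInd.indFun_sub]
    abel
  obtain ⟨m, hm⟩ := CharCore.IsCharacter.exists_sum hA
  obtain ⟨n, hn⟩ := CharCore.IsCharacter.exists_sum hB
  let c : IrrCharacter G → ℤ := fun χ => (m χ : ℤ) - n χ
  have hΛc : Λ = ∑ χ, (c χ : ℂ) • (χ : G → ℂ) := by
    rw [hΛAB, hm, hn, ← Finset.sum_sub_distrib]
    exact Finset.sum_congr rfl fun χ _ => by simp [c, sub_smul]
  have hc2 : ∑ χ, c χ * c χ = 1 := by
    have h2 := hnorm
    rw [hΛc, CharCore.classInner_sum_sum] at h2
    simp only [map_intCast] at h2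
    exact_mod_cast h2
  obtain ⟨χ₀, -, hχ₀⟩ := Finset.exists_ne_zero_of_sum_ne_zero (hc2.trans_ne one_ne_zero)
  have hc0 : c χ₀ ≠ 0 := fun h => hχ₀ (by simp [h])
  have hsplit' := Finset.add_sum_erase Finset.univ (fun χ => c χ * c χ) (Finset.mem_univ χ₀)
  rw [hc2] at hsplit'
  have hrest : ∑ χ ∈ Finset.univ.erase χ₀, c χ * c χ = 0 := by
    have h1 : 1 ≤ c χ₀ * c χ₀ := by
      rcases Int.lt_or_gt_of_ne hc0 with h | h <;> nlinarith
    have h2 : 0 ≤ ∑ χ ∈ Finset.univ.erase χ₀, c χ * c χ :=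
      Finset.sum_nonneg fun χ _ => mul_self_nonneg _
    linarith
  have hzero : ∀ χ, χ ≠ χ₀ → c χ = 0 := fun χ hχ =>
    mul_self_eq_zero.1 ((Finset.sum_eq_zero_iff_of_nonneg fun χ _ => mul_self_nonneg _).1 hrest χ
      (Finset.mem_erase.2 ⟨hχ, Finset.mem_univ _⟩))
  have hΛ1 : Λ = (c χ₀ : ℂ) • (χ₀ : G → ℂ) := by
    rw [hΛc]
    refine Finset.sum_eq_single χ₀ (fun χ _ hχ => ?_) (by simp)
    simp [hzero χ hχ]
  have hsq : c χ₀ * c χ₀ = 1 := by rw [hrest, add_zero] at hsplit'; exact hsplit'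
  have hpos : c χ₀ = 1 := by
    rcases Int.eq_one_or_neg_one_of_mul_eq_one' hsq with h | h
    · exact h.1
    · exfalso
      obtain ⟨e, ρ, hρ, hχ⟩ := χ₀.2
      have h3 : Λ 1 = d := hΛ0 1 (by rw [CharInd.indFun_apply_one, hθ1, mul_zero])
      rw [hΛ1, h.1] at h3
      simp only [Int.cast_neg, Int.cast_one, neg_smul, one_smul, Pi.neg_apply] at h3
      rw [← hχ, Representation.char_one] at h3
      simp only [Module.finrank_fin_fun] at h3
      have h4 : ((e + d : ℕ) : ℂ) = 0 := by rw [Nat.cast_add, ← h3]; ring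
      have : e + d = 0 := by exact_mod_cast h4
      have hd0 : d ≠ 0 := by
        rintro rfl
        exact CharCore.irr_apply_one_ne_zero φ (by simpa using hd)
      omega
  refine ⟨Λ, ?_, hΛH, hΛ0⟩
  rw [hΛ1, hpos, Int.cast_one, one_smul]
  exact CharCore.irr_isCharacter χ₀

end Ext

/-- A subgroup generated by two involutions is solvable. -/
theorem isSolvable_closure_pair {x y : G} (hx : orderOf x = 2) (hy : orderOf y = 2) :
    Group.IsSolvable ↥(closure ({x, y} : Set G)) := by
  obtain ⟨e⟩ := Involution.closure_pair_equiv_dihedral hx hy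
  let s : DihedralGroup (orderOf (x * y)) →* Multiplicative (ZMod 2) :=
    MonoidHom.mk' (fun d => match d with
      | .r _ => 1
      | .sr _ => Multiplicative.ofAdd 1) (by rintro (i | i) (j | j) <;> simp <;> decide)
  let r : Multiplicative (ZMod (orderOf (x * y))) →* DihedralGroup (orderOf (x * y)) :=
    MonoidHom.mk' (fun i => .r i.toAdd) (by simp)
  have hker : s.ker ≤ r.range := by
    rintro (i | i) hd
    · exact ⟨Multiplicative.ofAdd i, rfl⟩
    · exact absurd (show Multiplicative.ofAdd (1 : ZMod 2) = 1 from hd) (by decide)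
  haveI : Group.IsSolvable (DihedralGroup (orderOf (x * y))) :=
    Group.isSolvable_of_ker_le_range r s hker
  exact Group.isSolvable_of_surjective (f := e.symm.toMonoidHom) e.symm.surjective

/-! ### The setting -/

/-- `H` is TI, `K` is a normal complement in the normalizer, of coprime order. -/
structure Data (H : Subgroup G) (π : ↥(normalizer (H : Set G)) →* H) : Prop where
  proj : ∀ h : H, π ⟨h, le_normalizer h.2⟩ = h
  coprime : (Nat.card H).Coprime (Nat.card π.ker)
  ti : Cfsg.IsTISubset (H : Set G)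

variable {H : Subgroup G}

theorem exists_data [Finite G] (hTI : Cfsg.IsTISubset (H : Set G))
    (hHall : (Nat.card H).Coprime (H.subgroupOf (normalizer (H : Set G))).index)
    (h : ∃ K : Subgroup (normalizer (H : Set G)), K.Normal ∧
      K.IsComplement' (H.subgroupOf (normalizer (H : Set G)))) :
    ∃ π, Data H π := by
  obtain ⟨K, hKn, hc⟩ := h
  let e : ↥(H.subgroupOf (normalizer (H : Set G))) ≃* H := subgroupOfEquivOfLe le_normalizer
  let f : (normalizer (H : Set G)) ⧸ K ≃* ↥(H.subgroupOf (normalizer (H : Set G))) :=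
    hc.symm.QuotientMulEquiv
  let π : ↥(normalizer (H : Set G)) →* H :=
    e.toMonoidHom.comp (f.toMonoidHom.comp (QuotientGroup.mk' K))
  have hker : π.ker = K := by
    ext x
    simp [π, MonoidHom.mem_ker]
  refine ⟨π, fun h => ?_, ?_, hTI⟩
  · let h' : ↥(H.subgroupOf (normalizer (H : Set G))) := ⟨⟨h, le_normalizer h.2⟩, h.2⟩
    have h1 : f.symm h' = QuotientGroup.mk' K (h' : ↥(normalizer (H : Set G))) := rfl
    show e (f (QuotientGroup.mk' K (h' : ↥(normalizer (H : Set G))))) = h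
    rw [← h1, f.apply_symm_apply]
    rfl
  · rw [hker, ← hc.symm.symm.index_eq_card]
    exact hHall

variable {π : ↥(normalizer (H : Set G)) →* H}

local notation "N" => normalizer (H : Set G)

/-- The kernel of the projection, as a subgroup of the group. -/
def kerG (π : ↥(normalizer (H : Set G)) →* H) : Subgroup G := π.ker.map (normalizer (H : Set G)).subtype

theorem mem_kerG_iff {π : ↥(normalizer (H : Set G)) →* H} {x : G} :
    x ∈ kerG π ↔ ∃ h : x ∈ normalizer (H : Set G), π ⟨x, h⟩ = 1 := by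
  constructor
  · rintro ⟨n, hn, rfl⟩
    exact ⟨n.2, hn⟩
  · rintro ⟨h, h1⟩
    exact ⟨⟨x, h⟩, h1, rfl⟩

theorem Data.commute_kerG (D : Data H π) {h k : G} (hh : h ∈ H) (hk : k ∈ kerG π) :
    Commute h k := by
  obtain ⟨k', hk', rfl⟩ := hk
  have hd : Disjoint (H.subgroupOf N) π.ker := disjoint_iff_inf_le.2 fun x hx => by
    have h1 := D.proj ⟨x.1, hx.1⟩
    have h2 : π x = 1 := hx.2
    rw [Subgroup.mem_bot]
    apply Subtype.ext
    rw [Subtype.ext_iff] at h1
    simp only [Subtype.coe_eta, h2] at h1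
    exact h1.symm
  exact (commute_of_normal_of_disjoint _ _ Subgroup.normal_in_normalizer inferInstance hd
    ⟨h, le_normalizer hh⟩ k' hh hk').map (normalizer (H : Set G)).subtype

variable [Finite G]

theorem Data.exists_pow (D : Data H π) : ∃ e : ℕ, ∀ n : ↥N, (n : G) ^ e = (π n : G) := by
  obtain ⟨e, he1, he2⟩ := Nat.chineseRemainder D.coprime 1 0
  refine ⟨e, fun n => ?_⟩
  let h : ↥N := ⟨π n, le_normalizer (π n).2⟩
  have hk : h⁻¹ * n ∈ π.ker := by
    rw [MonoidHom.mem_ker, map_mul, map_inv, D.proj, inv_mul_cancel]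
  have hcomm : Commute (π n : G) ((h⁻¹ * n : ↥N) : G) :=
    D.commute_kerG (π n).2 (Subgroup.mem_map_of_mem _ hk)
  have hn : (n : G) = (π n : G) * ((h⁻¹ * n : ↥N) : G) := by simp [h]
  rw [hn, hcomm.mul_pow]
  have e1 : (π n : G) ^ e = (π n : G) := by
    have : (π n) ^ e = (π n) ^ 1 := pow_eq_pow_iff_modEq.2 (he1.of_dvd (orderOf_dvd_natCard _))
    simpa using congrArg Subtype.val this
  have e2 : (⟨h⁻¹ * n, hk⟩ : π.ker) ^ e = 1 := by
    rw [← pow_zero (⟨h⁻¹ * n, hk⟩ : π.ker)]
    exact pow_eq_pow_iff_modEq.2 (he2.of_dvd (orderOf_dvd_natCard _))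
  have e3 : ((h⁻¹ * n : ↥N) : G) ^ e = 1 := by simpa using congrArg (fun x : π.ker => ((x : ↥N) : G)) e2
  rw [e1, e3, mul_one]

/-- Conjugates of an element with nontrivial projection meet the normalizer only from inside. -/
theorem Data.mem_of_conj (D : Data H π) {n : ↥N} (hn : π n ≠ 1) {x : G}
    (hx : x⁻¹ * (n : G) * x ∈ N) : x ∈ N := by
  obtain ⟨e, he⟩ := D.exists_pow
  have h1 := he ⟨_, hx⟩
  have h3 : (x⁻¹ * (n : G) * x) ^ e = x⁻¹ * (n : G) ^ e * x := by
    simpa using conj_pow (i := e) (a := x⁻¹) (b := (n : G))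
  rw [h3, he n] at h1
  by_contra hxN
  refine hn (Subtype.ext (D.ti x⁻¹ (fun h => hxN (inv_mem_iff.1 h)) _ (π n).2 ?_))
  rw [inv_inv]
  show x⁻¹ * (π n : G) * x ∈ H
  rw [h1]
  exact (π _).2

theorem Data.mem_of_conj_mem (D : Data H π) {h x : G} (hh : h ∈ H) (h1 : h ≠ 1)
    (hx : x⁻¹ * h * x ∈ N) : x ∈ N :=
  D.mem_of_conj (n := ⟨h, le_normalizer hh⟩)
    (by rw [D.proj ⟨h, hh⟩]; exact fun he => h1 (congrArg Subtype.val he)) hx

theorem Data.mem_of_commute (D : Data H π) {h x : G} (hh : h ∈ H) (h1 : h ≠ 1)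
    (hx : h * x = x * h) : x ∈ N :=
  D.mem_of_conj_mem hh h1 (by rw [mul_assoc, hx, inv_mul_cancel_left]; exact le_normalizer hh)

/-- A Hall subgroup of the whole group. -/
theorem Data.coprime_index (D : Data H π) : (Nat.card H).Coprime H.index := by
  have hindex : H.index = (H.subgroupOf N).index * (normalizer (H : Set G)).index :=
    (Subgroup.relIndex_mul_index le_normalizer).symm
  have hker : (H.subgroupOf N).index = Nat.card π.ker := by
    have hsurj : Function.Surjective π := fun h => ⟨_, D.proj h⟩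
    have h1 := π.ker.card_eq_card_quotient_mul_card_subgroup
    rw [Nat.card_congr (QuotientGroup.quotientKerEquivOfSurjective π hsurj).toEquiv] at h1
    have h2 := (H.subgroupOf N).card_mul_index
    rw [Nat.card_congr (subgroupOfEquivOfLe (le_normalizer (H := H))).toEquiv] at h2
    have := Nat.card_pos (α := H)
    nlinarith
  rw [hindex, hker]
  refine Nat.Coprime.mul_right D.coprime ?_
  refine Nat.coprime_of_dvd fun p hp hpH hpI => ?_
  haveI := Fact.mk hp
  obtain ⟨z, hz⟩ := exists_prime_orderOf_dvd_card' p hpH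
  let Z : Subgroup G := zpowers (z : G)
  have hzo : orderOf (z : G) = p := by rw [orderOf_coe]; exact hz
  have hZ : IsPGroup p Z := IsPGroup.of_card (n := 1) (by rw [Nat.card_zpowers, hzo, pow_one])
  have hfix : MulAction.fixedPoints Z (G ⧸ (normalizer (H : Set G))) = {((1 : G) : G ⧸ _)} := by
    ext q
    constructor
    · intro hq
      obtain ⟨x, rfl⟩ := QuotientGroup.mk_surjective q
      have h1 : ((z : G) * x : G) = (x : G ⧸ normalizer (H : Set G)) := hq ⟨z, mem_zpowers _⟩
      rw [Set.mem_singleton_iff, QuotientGroup.eq, mul_one]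
      rw [QuotientGroup.eq] at h1
      have h2 := inv_mem h1
      simp only [mul_inv_rev, inv_inv] at h2
      refine inv_mem (D.mem_of_conj_mem z.2 ?_ (by simpa [mul_assoc] using h2))
      intro he
      rw [he, orderOf_one] at hzo
      exact hp.one_lt.ne hzo
    · rintro rfl ⟨w, hw⟩
      show ((w * 1 : G) : G ⧸ normalizer (H : Set G)) = _
      rw [QuotientGroup.eq, mul_one, mul_one]
      exact inv_mem (le_normalizer ((zpowers_le.2 z.2) hw))
  have hmod := hZ.card_modEq_card_fixedPoints (G ⧸ normalizer (H : Set G))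
  rw [hfix, Nat.card_coe_set_eq, Set.ncard_singleton, ← Subgroup.index_eq_card] at hmod
  have := hmod.symm.trans ((Nat.modEq_zero_iff_dvd).2 hpI)
  exact hp.not_dvd_one ((Nat.modEq_zero_iff_dvd).1 this)

open Classical in
/-- The normal complement in the whole group. -/
theorem Data.exists_complement (D : Data H π) :
    ∃ M : Subgroup G, M.Normal ∧ M.IsComplement' H ∧ M ⊓ N = kerG π := by
  haveI := Fintype.ofFinite G
  haveI := Fintype.ofFinite ↥N
  haveI := Fintype.ofFinite H
  have hsurj : Function.Surjective π := fun h => ⟨_, D.proj h⟩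
  let infl : IrrCharacter H → IrrCharacter ↥N := fun φ =>
    ⟨_, CharCore.isIrrCharacter_comp_surjective φ.2 π hsurj⟩
  have hinfl : ∀ φ n, (infl φ : ↥N → ℂ) n = (φ : H → ℂ) (π n) := fun φ n => rfl
  have hzero : ∀ (φ : IrrCharacter H) (g : G),
      (∀ x, ∀ hm : x⁻¹ * g * x ∈ N, π ⟨_, hm⟩ = 1) →
      indFun N ((infl φ : ↥N → ℂ) - fun _ => (infl φ : ↥N → ℂ) 1) g = 0 := by
    intro φ g hg
    rw [CharInd.indFun_apply]
    refine mul_eq_zero_of_right _ (Finset.sum_eq_zero fun x _ => ?_)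
    by_cases hm : x⁻¹ * g * x ∈ N
    · rw [CharInd.extendByZero_mem _ hm]
      simp only [Pi.sub_apply, hinfl, hg x hm, map_one, sub_self]
    · exact CharInd.extendByZero_notMem _ hm
  have hind : ∀ (φ : IrrCharacter H) (n : ↥N),
      indFun N ((infl φ : ↥N → ℂ) - fun _ => (infl φ : ↥N → ℂ) 1) n =
        (infl φ : ↥N → ℂ) n - (infl φ : ↥N → ℂ) 1 := by
    intro φ n
    by_cases hn : π n = 1
    · rw [hzero φ n fun x hm => ?_]
      · simp only [hinfl, hn, map_one, sub_self]
      by_contra hne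
      have hxN : x⁻¹ ∈ N := D.mem_of_conj hne (x := x⁻¹) (by simp [mul_assoc])
      refine hne ?_
      have : (⟨x⁻¹ * (n : G) * x, hm⟩ : ↥N) = ⟨x⁻¹, hxN⟩ * n * ⟨x⁻¹, hxN⟩⁻¹ := by
        apply Subtype.ext; simp
      rw [this, map_mul, map_mul, hn, mul_one, map_inv, mul_inv_cancel]
    · have hc : IsClassFunction ↥N
          ((infl φ : ↥N → ℂ) - fun _ => (infl φ : ↥N → ℂ) 1) := fun g h => by
        simp only [Pi.sub_apply, CharCore.irr_isClassFunction (infl φ) g h]
      rw [CharInd.indFun_apply,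
        ← Finset.sum_subset (Finset.subset_univ (Finset.univ.filter (· ∈ N))) ?_]
      · rw [Finset.sum_congr rfl
          (g := fun _ => (infl φ : ↥N → ℂ) n - (infl φ : ↥N → ℂ) 1) ?_]
        · rw [Finset.sum_const, nsmul_eq_mul, ← mul_assoc]
          have hcard : (Finset.univ.filter (· ∈ N)).card = Nat.card ↥N := by
            rw [Nat.card_eq_fintype_card, Fintype.card_subtype]
          rw [hcard, inv_mul_cancel₀ (by exact_mod_cast Nat.card_pos.ne'), one_mul]
        · intro x hx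
          simp only [Finset.mem_filter, Finset.mem_univ, true_and] at hx
          rw [CharInd.extendByZero_mem _ (mul_mem (mul_mem (inv_mem hx) n.2) hx)]
          show _ = (((infl φ : ↥N → ℂ) - fun _ => (infl φ : ↥N → ℂ) 1) : ↥N → ℂ) n
          rw [← hc n (⟨x, hx⟩ : ↥N)⁻¹]
          exact congrArg _ (Subtype.ext (by simp))
      · intro x _ hx
        refine CharInd.extendByZero_notMem _ fun hm => hx ?_
        simp only [Finset.mem_filter, Finset.mem_univ, true_and]
        exact D.mem_of_conj hn hm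
  choose χ hχ hχN hχ0 using fun φ => exists_ext_of_indFun_eq (infl φ) (hind φ)
  choose d ρ hρ using hχ
  let M : Subgroup G := ⨅ φ : IrrCharacter H, (ρ φ).ker
  have hM : ∀ g, g ∈ M ↔ ∀ φ, ρ φ g = 1 := fun g => by
    simp [M, Subgroup.mem_iInf, MonoidHom.mem_ker]
  have hT : ∀ g : G, (∀ x, ∀ hm : x⁻¹ * g * x ∈ N, π ⟨_, hm⟩ = 1) → g ∈ M := by
    intro g hg
    rw [hM]
    intro φ
    refine (CharCore.character_eq_finrank_iff (ρ φ) g).1 ?_
    rw [← Representation.char_one (ρ := ρ φ), hρ, hχ0 φ g (hzero φ g hg)]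
    have h1 := hχN φ 1
    rw [OneMemClass.coe_one] at h1
    exact h1.symm
  have hMN : ∀ n : ↥N, (n : G) ∈ M ↔ π n = 1 := by
    intro n
    constructor
    · intro hn
      refine Frobenius.eq_one_of_forall_irr fun φ => ?_
      have h1 := hinfl φ n
      have h2 := hinfl φ 1
      rw [map_one] at h2
      rw [← h1, ← h2, ← hχN φ n, ← hχN φ 1, ← hρ φ]
      simp only [Representation.character, OneMemClass.coe_one, map_one, ((hM _).1 hn) φ]
    · intro hn
      refine hT _ fun x hm => ?_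
      by_contra hne
      have hxN : x⁻¹ ∈ N := D.mem_of_conj hne (x := x⁻¹) (by simp [mul_assoc])
      refine hne ?_
      have : (⟨x⁻¹ * (n : G) * x, hm⟩ : ↥N) = ⟨x⁻¹, hxN⟩ * n * ⟨x⁻¹, hxN⟩⁻¹ := by
        apply Subtype.ext; simp
      rw [this, map_mul, map_mul, hn, mul_one, map_inv, mul_inv_cancel]
  have hnormal : M.Normal := Subgroup.normal_iInf_normal fun φ => inferInstance
  have hdisj : Disjoint M H := disjoint_iff_inf_le.2 fun x hx => by
    have h1 := (hMN ⟨x, le_normalizer hx.2⟩).1 hx.1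
    rw [D.proj ⟨x, hx.2⟩] at h1
    exact Subgroup.mem_bot.2 (congrArg Subtype.val h1)
  have htop : H.map (QuotientGroup.mk' M) = ⊤ := by
    refine FG78.eq_top_of_conjugates_cover _ fun q => ?_
    obtain ⟨g, rfl⟩ := QuotientGroup.mk'_surjective M q
    by_cases hg : g ∈ M
    · exact ⟨1, by rw [(QuotientGroup.eq_one_iff g).2 hg |> (fun h => show QuotientGroup.mk' M g = 1 from h)]; simp⟩
    · obtain ⟨x, hm, hne⟩ : ∃ x, ∃ hm : x⁻¹ * g * x ∈ N, π ⟨_, hm⟩ ≠ 1 := by
        by_contra hcon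
        push Not at hcon
        exact hg (hT g hcon)
      refine ⟨QuotientGroup.mk' M x⁻¹, (π ⟨_, hm⟩ : G), (π _).2, ?_⟩
      have hk : (π ⟨_, hm⟩ : G)⁻¹ * (x⁻¹ * g * x) ∈ M := by
        have := (hMN (⟨π ⟨_, hm⟩, le_normalizer (π _).2⟩⁻¹ * ⟨_, hm⟩)).2 (by
          rw [map_mul, map_inv, D.proj, inv_mul_cancel])
        simpa using this
      calc QuotientGroup.mk' M (π ⟨_, hm⟩ : G) = QuotientGroup.mk' M (x⁻¹ * g * x) :=
            (QuotientGroup.eq).2 hk
        _ = _ := by simp
  have hmul : (M : Set G) * (H : Set G) = Set.univ := by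
    rw [← Subgroup.normal_mul, Set.eq_univ_iff_forall]
    intro g
    have h1 : QuotientGroup.mk' M g ∈ H.map (QuotientGroup.mk' M) := htop ▸ Subgroup.mem_top _
    obtain ⟨h, hh, he⟩ := h1
    obtain ⟨z, hz, hz'⟩ := (QuotientGroup.mk'_eq_mk' M).1 he
    rw [← hz']
    exact (sup_comm H M).le (Subgroup.mul_mem_sup hh hz)
  refine ⟨M, hnormal, Subgroup.isComplement'_of_disjoint_and_mul_eq_univ hdisj hmul, ?_⟩
  ext x
  rw [Subgroup.mem_inf, mem_kerG_iff]
  exact ⟨fun h => ⟨h.2, (hMN ⟨x, h.2⟩).1 h.1⟩, fun ⟨h, h1⟩ => ⟨(hMN ⟨x, h⟩).2 h1, h⟩⟩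

/-- Every nontrivial `A ≤ H` normalising a `q`-subgroup of the complement outside the kernel
acts without fixed points on a nontrivial section. -/
theorem Data.exists_fpf (D : Data H π) {M : Subgroup G} [M.Normal] (hc : M.IsComplement' H)
    (hMN : M ⊓ N = kerG π) {A : Subgroup G} (hA : A ≤ H) {q : ℕ} [hq : Fact q.Prime]
    {Q : Subgroup G} (hQM : Q ≤ M) (hQ : IsPGroup q Q)
    (hAQ : A ≤ normalizer (Q : Set G)) (hQK : ¬ Q ≤ kerG π) :
    ∃ (L : Type u) (_ : Group L) (_ : Finite L) (C V : Subgroup L),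
      V.Normal ∧ V ≠ ⊥ ∧ Frobenius.IsFPF C V ∧ Nonempty (A ≃* C) := by
  let Dd : Subgroup G := Q ⊓ kerG π
  let W : Subgroup G := Q ⊓ normalizer (Dd : Set G)
  let L : Subgroup G := normalizer (W : Set G) ⊓ normalizer (Dd : Set G)
  have hAK : A ≤ normalizer (kerG π : Set G) := Coprime.le_normalizer_of_conj_mem fun a ha x hx => by
    rw [(D.commute_kerG (hA ha) hx).eq, mul_inv_cancel_right]
    exact hx
  have hAD : A ≤ normalizer (Dd : Set G) := Coprime.le_normalizer_inf hAQ hAK
  have hAW : A ≤ normalizer (W : Set G) :=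
    Coprime.le_normalizer_inf hAQ (Coprime.le_normalizer_normalizer hAD)
  have hAL : A ≤ L := le_inf hAW hAD
  have hWL : W ≤ L := le_inf le_normalizer inf_le_right
  haveI hDn : (Dd.subgroupOf L).Normal :=
    Subgroup.normal_subgroupOf_of_le_normalizer inf_le_right
  haveI hWn : (W.subgroupOf L).Normal :=
    Subgroup.normal_subgroupOf_of_le_normalizer inf_le_left
  let qL := QuotientGroup.mk' (Dd.subgroupOf L)
  let C := (A.subgroupOf L).map qL
  let V := (W.subgroupOf L).map qL
  have hVn : V.Normal := hWn.map _ (QuotientGroup.mk'_surjective _)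
  have hAD1 : ∀ a ∈ A, a ∈ Dd → a = 1 := fun a ha hd =>
    Subgroup.mem_bot.1 (hc.disjoint.le_bot ⟨hQM hd.1, hA ha⟩)
  haveI hQnil : Group.IsNilpotent Q := hQ.isNilpotent
  have hDW : Dd < W := by
    have hlt : Dd.subgroupOf Q < ⊤ := by
      refine lt_top_iff_ne_top.2 fun h => hQK ?_
      exact (Subgroup.subgroupOf_eq_top.1 h).trans inf_le_right
    have := Group.normalizerCondition_of_isNilpotent (G := Q) _ hlt
    obtain ⟨w, hw, hwD⟩ := SetLike.exists_of_lt this
    refine lt_of_le_of_ne (le_inf inf_le_left le_normalizer) fun he => hwD ?_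
    show (w : G) ∈ Dd
    rw [he]
    refine ⟨w.2, Subgroup.mem_normalizer_iff.2 fun y => ?_⟩
    rw [Subgroup.mem_normalizer_iff] at hw
    constructor
    · intro hy
      exact (hw ⟨y, hy.1⟩).1 hy
    · intro hy
      have hyQ : y ∈ Q := by
        have := mul_mem (mul_mem (inv_mem w.2) hy.1) w.2
        simpa [mul_assoc] using this
      exact (hw ⟨y, hyQ⟩).2 hy
  have hVne : V ≠ ⊥ := by
    intro h
    obtain ⟨w, hw, hwD⟩ := SetLike.exists_of_lt hDW
    have h1 : qL ⟨w, hWL hw⟩ ∈ V := Subgroup.mem_map_of_mem _ hw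
    rw [h, Subgroup.mem_bot] at h1
    exact hwD (Subgroup.mem_subgroupOf.1 ((QuotientGroup.eq_one_iff (⟨w, hWL hw⟩ : L)).1
      (show ((⟨w, hWL hw⟩ : L) : L ⧸ Dd.subgroupOf L) = 1 from h1)))
  have hfpf : Frobenius.IsFPF C V := by
    refine ⟨?_, ?_⟩
    · haveI := hVn
      simp [Subgroup.normalizer_eq_top]
    rintro _ ⟨⟨a, haL⟩, ha, rfl⟩ hne
    rw [Subgroup.eq_bot_iff_forall]
    rintro _ ⟨⟨⟨w, hwL⟩, hw, rfl⟩, hcomm⟩
    change a ∈ A at ha
    change w ∈ W at hw
    have ha1 : a ≠ 1 := by rintro rfl; exact hne (map_one qL)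
    have h1 := Subgroup.mem_centralizer_singleton_iff.1 hcomm
    rw [← map_mul, ← map_mul] at h1
    have h2 : w⁻¹ * (a * w * a⁻¹) ∈ Dd := by
      have h3 : (⟨w, hwL⟩ * ⟨a, haL⟩ : L)⁻¹ * (⟨a, haL⟩ * ⟨w, hwL⟩) ∈ Dd.subgroupOf L :=
        QuotientGroup.eq.1 h1
      have h4 := (Subgroup.mem_normalizer_iff.1 (hAD ha) _).1 (Subgroup.mem_subgroupOf.1 h3)
      simpa [mul_assoc] using h4
    set dd := w⁻¹ * (a * w * a⁻¹) with hdd
    have hdd' : a * w * a⁻¹ = w * dd := by rw [hdd]; group
    have hfix : a * dd * a⁻¹ = dd := by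
      rw [(D.commute_kerG (hA ha) h2.2).eq, mul_inv_cancel_right]
    have hiter : ∀ i : ℕ, a ^ i * w * (a ^ i)⁻¹ = w * dd ^ i := by
      intro i
      induction i with
      | zero => simp
      | succ i ih =>
        calc a ^ (i + 1) * w * (a ^ (i + 1))⁻¹ = a * (a ^ i * w * (a ^ i)⁻¹) * a⁻¹ := by
              rw [pow_succ']; group
          _ = (a * w * a⁻¹) * (a * dd ^ i * a⁻¹) := by rw [ih]; group
          _ = w * dd ^ (i + 1) := by
              rw [← conj_pow, hfix, hdd', mul_assoc, ← pow_succ']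
    have hdd1 : dd = 1 := by
      have h5 : dd ^ Nat.card H = 1 := by
        have := hiter (Nat.card H)
        rw [show a ^ Nat.card H = 1 from
          (congrArg Subtype.val (pow_card_eq_one' (x := (⟨a, hA ha⟩ : H))) :)] at this
        simpa using this
      have h6 : dd ^ Nat.card M = 1 := by
        exact (congrArg Subtype.val (pow_card_eq_one' (x := (⟨dd, hQM h2.1⟩ : M))) :)
      have h7 : (Nat.card H).Coprime (Nat.card M) := by
        rw [← hc.index_eq_card]
        exact D.coprime_index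
      have := pow_gcd_eq_one.2 ⟨h5, h6⟩
      rwa [h7, pow_one] at this
    rw [hdd1, mul_one] at hdd'
    have hwc : a * w = w * a := mul_inv_eq_iff_eq_mul.1 hdd'
    refine (QuotientGroup.eq_one_iff (⟨w, hwL⟩ : L)).2 ⟨hw.1, ?_⟩
    rw [← hMN]
    exact ⟨hQM hw.1, D.mem_of_commute (hA ha) ha1 hwc⟩
  let f : A →* L ⧸ Dd.subgroupOf L := qL.comp (Subgroup.inclusion hAL)
  have hf : Function.Injective f := (injective_iff_map_eq_one f).2 fun a ha =>
    Subtype.ext (hAD1 a a.2 ((QuotientGroup.eq_one_iff (Subgroup.inclusion hAL a)).1 ha))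
  have hfr : f.range = C := by
    ext y
    constructor
    · rintro ⟨a, rfl⟩
      exact Subgroup.mem_map_of_mem _ a.2
    · rintro ⟨x, hx, rfl⟩
      exact ⟨⟨x, hx⟩, rfl⟩
  exact ⟨L ⧸ Dd.subgroupOf L, inferInstance, inferInstance, C, V, hVn, hVne, hfpf,
    ⟨(MonoidHom.ofInjective hf).trans (MulEquiv.subgroupCongr hfr)⟩⟩

/-- Every solvable subgroup of `H` normalises a Sylow subgroup of the complement outside the
kernel. -/
theorem Data.exists_invariant (D : Data H π) {M : Subgroup G} [M.Normal] (hc : M.IsComplement' H)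
    (hMN : M ⊓ N = kerG π) (hH : ¬ H.Normal) {A : Subgroup G} (hA : A ≤ H)
    (hs : Group.IsSolvable A) :
    ∃ (q : ℕ) (_ : Fact q.Prime) (P : Sylow q M), A ≤ normalizer ((P : Subgroup M).map M.subtype : Set G)
      ∧ ¬ (P : Subgroup M).map M.subtype ≤ kerG π := by
  by_contra hcon
  push Not at hcon
  have hcop : (Nat.card A).Coprime (Nat.card M) :=
    Nat.Coprime.coprime_dvd_left (Subgroup.card_dvd_of_le hA) (hc.index_eq_card ▸ D.coprime_index)
  have hKM : kerG π ≤ M := hMN ▸ inf_le_left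
  have hdvd : Nat.card M ∣ Nat.card (kerG π) := by
    refine (Nat.dvd_iff_prime_pow_dvd_dvd _ _).2 fun q k hq hk => ?_
    haveI := Fact.mk hq
    obtain ⟨P, hP⟩ := Coprime.exists_invariant_sylow A M
      (by simp [Subgroup.normalizer_eq_top]) hcop (Or.inl hs) q
    have h1 := hcon q ⟨hq⟩ P hP
    refine (pow_dvd_of_le_factorization ?_).trans (Subgroup.card_dvd_of_le h1)
    exact (hq.pow_dvd_iff_le_factorization Nat.card_pos.ne').1 hk
  have he : M = kerG π := (Subgroup.eq_of_le_of_card_ge hKM (Nat.le_of_dvd Nat.card_pos hdvd)).symm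
  apply hH
  rw [← Subgroup.normalizer_eq_top_iff, eq_top_iff, ← hc.sup_eq_top]
  exact sup_le (he.le.trans (Subgroup.map_subtype_le _)) le_normalizer
where
  pow_dvd_of_le_factorization {q k : ℕ} [Fact q.Prime] {M : Subgroup G} {P : Sylow q M}
      (h : k ≤ (Nat.card M).factorization q) :
      q ^ k ∣ Nat.card ((P : Subgroup M).map M.subtype) := by
    rw [Nat.card_congr (Subgroup.equivMapOfInjective _ _ M.subtype_injective).symm.toEquiv,
      P.card_eq_multiplicity]
    exact pow_dvd_pow q h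

end Cfsg.Agent.TIHall
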